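import Groth.Prelude.Def_Pi1
import Mathlib.AlgebraicGeometry.ZariskisMainTheorem
import Mathlib.AlgebraicGeometry.FunctionField
import Mathlib.AlgebraicGeometry.Normalization
import Mathlib.RingTheory.IntegralClosure.IntegrallyClosed

/-! Birational morphisms onto normal integral schemes. -/

namespace Groth.Agent.BirNormal

open AlgebraicGeometry CategoryTheory

universe u

/-- An integral birational morphism onto a normal integral scheme is an isomorphism. -/
theorem isIso_of_isIntegralHom {X Y : Scheme.{u}} [IsIntegral X] [IsIntegral Y] (f : X ⟶ Y)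
    [IsIntegralHom f]
    (hN : ∀ U : Y.Opens, Nonempty U → IsAffineOpen U → IsIntegrallyClosed Γ(Y, U))
    (e : f (genericPoint X) = genericPoint Y)
    (hbir : Function.Bijective
      (Y.presheaf.stalkSpecializes (specializes_of_eq e) ≫ f.stalkMap (genericPoint X)).hom) :
    IsIso f := by
  refine IsZariskiLocalAtTarget.of_iSup_eq_top (P := MorphismProperty.isomorphisms Scheme)
    (fun U : Y.affineOpens => U.1) (iSup_affineOpens_eq_top Y) fun U => ?_
  obtain ⟨U, hU⟩ := U
  show IsIso (f ∣_ U)
  rw [isIso_morphismRestrict_iff_isIso_app f hU]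
  by_cases hne : Nonempty U
  swap
  · have hbot : U = ⊥ := by
      ext x; simp only [TopologicalSpace.Opens.coe_bot, Set.mem_empty_iff_false, iff_false]
      exact fun hx => hne ⟨⟨x, hx⟩⟩
    subst hbot
    haveI : Subsingleton Γ(Y, ⊥) := CommRingCat.subsingleton_of_isTerminal Y.sheaf.isTerminalOfEmpty
    haveI : Subsingleton Γ(X, f ⁻¹ᵁ ⊥) := by
      rw [show f ⁻¹ᵁ (⊥ : Y.Opens) = ⊥ from rfl]
      exact CommRingCat.subsingleton_of_isTerminal X.sheaf.isTerminalOfEmpty
    exact (ConcreteCategory.isIso_iff_bijective _).2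
      ⟨fun a b _ => Subsingleton.elim a b, fun b => ⟨0, Subsingleton.elim _ _⟩⟩
  haveI := hne
  have hηU : genericPoint Y ∈ U :=
    (genericPoint_spec Y).mem_open_set_iff U.isOpen |>.mpr
      ⟨_, trivial, hne.some.2⟩
  have hηV : genericPoint X ∈ f ⁻¹ᵁ U := show f (genericPoint X) ∈ U from e ▸ hηU
  haveI : IsFractionRing Γ(Y, U) Y.functionField := functionField_isFractionRing_of_isAffineOpen Y U hU
  haveI := hN U hne hU
  set ψ := (Y.presheaf.stalkSpecializes (specializes_of_eq e) ≫ f.stalkMap (genericPoint X)).hom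
  let ε : Y.functionField ≃+* X.functionField := RingEquiv.ofBijective ψ hbir
  have hsq : ∀ a : Γ(Y, U), ε (algebraMap Γ(Y, U) Y.functionField a) =
      X.presheaf.germ (f ⁻¹ᵁ U) (genericPoint X) hηV (f.app U a) := fun a => by
    show ψ (Y.presheaf.germ U (genericPoint Y) _ a) = _
    simp only [ψ, CommRingCat.hom_comp, RingHom.comp_apply]
    rw [TopCat.Presheaf.germ_stalkSpecializes_apply]
    exact f.germ_stalkMap_apply U (genericPoint X) hηV a
  have hgX := germ_injective_of_isIntegral (X := X) (genericPoint X) hηV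
  refine (ConcreteCategory.isIso_iff_bijective _).2 ⟨fun a b hab => ?_, fun b => ?_⟩
  · apply IsFractionRing.injective Γ(Y, U) Y.functionField
    apply ε.injective
    rw [hsq, hsq, hab]
  · have hint : (f.app U).hom.IsIntegralElem b := IsIntegralHom.isIntegral_app (f := f) U hU b
    set z := ε.symm (X.presheaf.germ (f ⁻¹ᵁ U) (genericPoint X) hηV b) with hz
    have hzint : IsIntegral Γ(Y, U) z := by
      obtain ⟨P, hP, hP0⟩ := hint
      refine ⟨P, hP, ε.injective ?_⟩
      show ε.toRingHom (P.eval₂ _ _) = ε 0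
      rw [map_zero, Polynomial.hom_eval₂]
      have h2 : ε.toRingHom.comp (algebraMap Γ(Y, U) Y.functionField) =
          (X.presheaf.germ (f ⁻¹ᵁ U) (genericPoint X) hηV).hom.comp (f.app U).hom := RingHom.ext hsq
      rw [h2, show ε.toRingHom z = X.presheaf.germ (f ⁻¹ᵁ U) (genericPoint X) hηV b from
        ε.apply_symm_apply _, ← Polynomial.hom_eval₂, hP0, map_zero]
    obtain ⟨a, ha⟩ := IsIntegrallyClosed.isIntegral_iff.1 hzint
    refine ⟨a, hgX ?_⟩
    rw [← hsq, ha, hz, RingEquiv.apply_symm_apply]

end Groth.Agent.BirNormal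

namespace Groth.Agent.BirNormal

open AlgebraicGeometry CategoryTheory

universe u

theorem isIso_stalkSpecializes_of_eq {X : Scheme.{u}} {x y : X} (h : x = y) (hs : x ⤳ y) :
    IsIso (X.presheaf.stalkSpecializes hs) := by
  subst h
  rw [TopCat.Presheaf.stalkSpecializes_refl]
  infer_instance

end Groth.Agent.BirNormal
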